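import Cfsg.Prelude.Def_Spor_Fi24

/-!
# The even subgroup of the presented group `Fi24`

Elements `x s` (`s` one of `a, …, j, h, i`) and `w` of a group `G` satisfying the relations of the elements
`l * s`, `l * k` of `Fi24` give a homomorphism from the commutator subgroup of `Fi24` to `G`.
-/

set_option autoImplicit false

namespace Cfsg.Agent.Fi24P.EvenPres

open Cfsg.Spor (coxRelators coxLabel coxNodes)

/-! ### General part -/

section General

variable {α G : Type*} [Group G]

/-- The permutation of `Bool × G` attached to an element of `G`: the image of a generator. -/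
def pe (u : G) : Equiv.Perm (Bool × G) where
  toFun p := (!p.1, (bif p.1 then u⁻¹ else u) * p.2)
  invFun p := (!p.1, (bif p.1 then u⁻¹ else u) * p.2)
  left_inv := by rintro ⟨_ | _, g⟩ <;> simp
  right_inv := by rintro ⟨_ | _, g⟩ <;> simp

theorem pe_false (u g : G) : pe u (false, g) = (true, u * g) := rfl
theorem pe_true (u g : G) : pe u (true, g) = (false, u⁻¹ * g) := rfl

/-- The diagonal action. -/
def di : G × G →* Equiv.Perm (Bool × G) where
  toFun q :=
    { toFun := fun p => (p.1, (bif p.1 then q.2 else q.1) * p.2)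
      invFun := fun p => (p.1, (bif p.1 then q.2⁻¹ else q.1⁻¹) * p.2)
      left_inv := by rintro ⟨_ | _, g⟩ <;> simp
      right_inv := by rintro ⟨_ | _, g⟩ <;> simp }
  map_one' := by ext ⟨_ | _, g⟩ <;> simp
  map_mul' := by rintro ⟨a, b⟩ ⟨c, d⟩; ext ⟨_ | _, g⟩ <;> simp [mul_assoc]

theorem di_false (a b g : G) : di (a, b) (false, g) = (false, a * g) := rfl
theorem di_true (a b g : G) : di (a, b) (true, g) = (true, b * g) := rfl

theorem pe_mul_pe (u v : G) : pe u * pe v = di (u⁻¹ * v, u * v⁻¹) := by
  ext ⟨_ | _, g⟩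
  · rw [Equiv.Perm.mul_apply, pe_false, pe_true, di_false]
  · rw [Equiv.Perm.mul_apply, pe_false, pe_true, di_false]; simp [mul_assoc]
  · rw [Equiv.Perm.mul_apply, pe_true, pe_false, di_true]
  · rw [Equiv.Perm.mul_apply, pe_true, pe_false, di_true]; simp [mul_assoc]

theorem di_pow (a b : G) (n : ℕ) : (di (a, b)) ^ n = di (a ^ n, b ^ n) := by
  rw [← map_pow]; rfl

theorem di_mul (a b c d : G) : di (a, b) * di (c, d) = di (a * c, b * d) := by
  rw [← map_mul]; rfl

theorem di_eq_one {a b : G} (ha : a = 1) (hb : b = 1) : di (a, b) = 1 := by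
  subst ha hb; exact map_one di

/-- Right multiplication commutes with everything. -/
def rm (k : G) : Equiv.Perm (Bool × G) where
  toFun p := (p.1, p.2 * k)
  invFun p := (p.1, p.2 * k⁻¹)
  left_inv := by rintro ⟨b, g⟩; simp
  right_inv := by rintro ⟨b, g⟩; simp

theorem rm_pe (k u : G) : rm k * pe u = pe u * rm k := by
  ext ⟨_ | _, g⟩ <;> simp [rm, pe, mul_assoc]

variable {R : Set (FreeGroup α)} (y : α → G)
  (hR : ∀ r ∈ R, FreeGroup.lift (fun s => pe (y s)) r = 1)

/-- The homomorphism to the permutations of `Bool × G`. -/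
def rho : PresentedGroup R →* Equiv.Perm (Bool × G) := PresentedGroup.toGroup hR

theorem rho_of (s : α) : rho y hR (PresentedGroup.of s) = pe (y s) := PresentedGroup.toGroup.of _

theorem rho_rm (g : PresentedGroup R) (k : G) : rm k * rho y hR g = rho y hR g * rm k := by
  have hg : g ∈ Subgroup.closure (Set.range (PresentedGroup.of (rels := R))) := by
    rw [PresentedGroup.closure_range_of]; trivial
  induction hg using Subgroup.closure_induction with
  | mem x hx => obtain ⟨s, rfl⟩ := hx; rw [rho_of]; exact rm_pe _ _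
  | one => simp
  | mul a b _ _ ha hb => rw [map_mul, ← mul_assoc, ha, mul_assoc, hb, mul_assoc]
  | inv a _ ha =>
    rw [map_inv, mul_inv_eq_iff_eq_mul, mul_assoc, ha, inv_mul_cancel_left]

variable (sg : PresentedGroup R →* ℤˣ) (hs : ∀ s, sg (PresentedGroup.of s) = -1)

include hs in
theorem rho_fst (g : PresentedGroup R) (p : Bool × G) :
    (rho y hR g p).1 = (if sg g = 1 then p.1 else !p.1) := by
  have hg : g ∈ Subgroup.closure (Set.range (PresentedGroup.of (rels := R))) := by
    rw [PresentedGroup.closure_range_of]; trivial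
  induction hg using Subgroup.closure_induction generalizing p with
  | mem x hx => obtain ⟨s, rfl⟩ := hx; rw [rho_of, hs]; simp [pe]
  | one => simp
  | mul a b _ _ ha hb =>
    rw [map_mul, Equiv.Perm.mul_apply, ha, hb, map_mul]
    rcases Int.units_eq_one_or (sg a) with h1 | h1 <;> rcases Int.units_eq_one_or (sg b) with h2 | h2 <;>
      simp [h1, h2]
  | inv a _ ha =>
    have := ha (rho y hR a⁻¹ p)
    rw [← Equiv.Perm.mul_apply, ← map_mul, mul_inv_cancel, map_one, Equiv.Perm.one_apply] at this
    rw [map_inv, map_inv]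
    rcases Int.units_eq_one_or (sg a) with h1 | h1
    · rw [h1] at this ⊢; simp at this ⊢; exact this.symm
    · rw [h1] at this ⊢; simp at this ⊢; rw [this]; simp

/-- The homomorphism on the even subgroup. -/
def phi : sg.ker →* G where
  toFun g := (rho y hR g (false, 1)).2
  map_one' := by simp
  map_mul' a b := by
    have hb : (rho y hR b (false, 1)) = (false, (rho y hR b (false, 1)).2) := by
      have h1 := rho_fst y hR sg hs b (false, 1)
      rw [if_pos (MonoidHom.mem_ker.1 b.2)] at h1
      exact Prod.ext h1 rfl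
    have hr := congrArg (fun e : Equiv.Perm (Bool × G) => e (false, 1))
      (rho_rm y hR (a : PresentedGroup R) (rho y hR b (false, 1)).2)
    simp only [Equiv.Perm.mul_apply] at hr
    have h2 : rm (rho y hR b (false, 1)).2 (false, (1 : G)) = rho y hR b (false, 1) := by
      conv_rhs => rw [hb]
      simp [rm]
    rw [h2] at hr
    show (rho y hR (↑a * ↑b) (false, 1)).2 = _
    rw [map_mul, Equiv.Perm.mul_apply, ← hr]
    rfl

theorem phi_mul (s t : α) (h : PresentedGroup.of s * PresentedGroup.of t ∈ sg.ker) :
    phi y hR sg hs ⟨PresentedGroup.of s * PresentedGroup.of t, h⟩ = (y s)⁻¹ * y t := by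
  show (rho y hR (PresentedGroup.of s * PresentedGroup.of t) (false, 1)).2 = _
  rw [map_mul, rho_of, rho_of, Equiv.Perm.mul_apply, pe_false, pe_true]
  simp

include hs in
theorem phi_mem (K : Subgroup G) (hK : ∀ s, y s ∈ K) (g : sg.ker) : phi y hR sg hs g ∈ K := by
  have key : ∀ (g : PresentedGroup R) (p : Bool × G), p.2 ∈ K → (rho y hR g p).2 ∈ K := by
    intro g
    have hg : g ∈ Subgroup.closure (Set.range (PresentedGroup.of (rels := R))) := by
      rw [PresentedGroup.closure_range_of]; trivial
    induction hg using Subgroup.closure_induction_left with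
    | one => intro p hp; simpa using hp
    | mul_left x hx b _ ih =>
      obtain ⟨s, rfl⟩ := hx
      intro p hp
      rw [map_mul, Equiv.Perm.mul_apply, rho_of]
      have h1 := ih p hp
      generalize rho y hR b p = q at h1
      rcases q with ⟨_ | _, q⟩
      · exact K.mul_mem (hK s) h1
      · exact K.mul_mem (K.inv_mem (hK s)) h1
    | inv_mul_cancel x hx b _ ih =>
      obtain ⟨s, rfl⟩ := hx
      intro p hp
      rw [map_mul, Equiv.Perm.mul_apply, map_inv, rho_of]
      have h1 := ih p hp
      generalize rho y hR b p = q at h1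
      rcases q with ⟨_ | _, q⟩
      · exact K.mul_mem (hK s) h1
      · exact K.mul_mem (K.inv_mem (hK s)) h1
  exact key g (false, 1) K.one_mem

end General

/-! ### The presented group `Fi24` -/

open Cfsg.Spor Cfsg.Spor.Fi24

/-- The generators of the presented group. -/
def gen (s : Gen) : Cfsg.Spor.Fi24 := PresentedGroup.of s

/-- The hypotheses: `y s` plays the role of `l * s`, `y .k` has order 3. -/
structure EvenData (G : Type*) [Group G] where
  /-- the elements -/
  y : Gen → G
  y_l : y .l = 1
  y_k : y .k ^ 3 = 1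
  sq : ∀ s, s ≠ .k → y s * y s = 1
  cox : ∀ s t, s ≠ .l → s ≠ .k → t ≠ .l → t ≠ .k → (y s * y t) ^ coxLabel edges s t = 1
  inv : ∀ s, s ≠ .l → s ≠ .k → s ≠ .a → y s * y .k * y s = (y .k)⁻¹
  ka : (y .k * y .a) ^ 3 = 1
  ka' : ((y .k)⁻¹ * y .a) ^ 3 = 1
  nine : (y .a * y .b * y .c * y .d * y .e * y .f * y .h) ^ 9 = 1
  seventeen : (y .d * y .c * y .b * y .a * y .k * y .d * y .e * y .f * y .g * y .j * y .d * y .h * y .i) ^ 17 = 1
  seventeen' : (y .d * y .c * y .b * y .a * (y .k)⁻¹ * y .d * y .e * y .f * y .g * y .j * y .d * y .h * y .i) ^ 17 = 1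

namespace EvenData

variable {G : Type*} [Group G] (E : EvenData G)

theorem y_inv (s : Gen) (h : s ≠ .k) : (E.y s)⁻¹ = E.y s := inv_eq_of_mul_eq_one_left (E.sq s h)

theorem pow_conj {u v : G} {n : ℕ} (h : (u * v) ^ n = 1) : (v * u) ^ n = 1 := by
  have : v * u = u⁻¹ * (u * v) * u := by group
  have h2 : (u⁻¹ * (u * v) * u) ^ n = u⁻¹ * (u * v) ^ n * u := by
    simpa using (conj_pow (i := n) (a := u⁻¹) (b := u * v))
  rw [this, h2, h]; group

theorem pow_inv {u : G} {n : ℕ} (h : u ^ n = 1) : (u⁻¹) ^ n = 1 := by rw [inv_pow, h, inv_one]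

theorem cox_one (s t : Gen) : ((E.y s)⁻¹ * E.y t) ^ coxLabel edges s t = 1 ∧
    (E.y s * (E.y t)⁻¹) ^ coxLabel edges s t = 1 := by
  have l2 : ∀ t : Gen, t ≠ .l → t ≠ .k → coxLabel edges .l t = 2 ∧ coxLabel edges t .l = 2 := by
    intro t h1 h2; cases t <;> first | exact absurd rfl h1 | exact absurd rfl h2 | decide
  have k2 : ∀ t : Gen, t ≠ .l → t ≠ .k → t ≠ .a → coxLabel edges .k t = 2 ∧ coxLabel edges t .k = 2 := by
    intro t h1 h2 h3; cases t <;> first | exact absurd rfl h1 | exact absurd rfl h2 | exact absurd rfl h3 | decide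
  have hk := E.y_k
  have hinv : ∀ t : Gen, t ≠ .l → t ≠ .k → t ≠ .a → ((E.y .k)⁻¹ * E.y t) ^ 2 = 1 ∧ (E.y .k * E.y t) ^ 2 = 1 := by
    intro t h1 h2 h3
    have h := E.inv t h1 h2 h3
    have hsq := E.sq t h2
    constructor
    · rw [← h, pow_two]
      calc E.y t * E.y .k * E.y t * E.y t * (E.y t * E.y .k * E.y t * E.y t)
          = E.y t * E.y .k * (E.y t * E.y t) * (E.y t * E.y .k * E.y t) * E.y t := by group
        _ = 1 := by rw [hsq, h]; simp [hsq]
    · rw [pow_two]
      calc E.y .k * E.y t * (E.y .k * E.y t) = E.y .k * (E.y t * E.y .k * E.y t) := by group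
        _ = 1 := by rw [h]; simp
  by_cases hsl : s = .l
  · subst hsl
    rw [E.y_l]
    by_cases htl : t = .l
    · subst htl; rw [E.y_l]; simp
    · by_cases htk : t = .k
      · subst htk
        have h3 : coxLabel edges .l .k = 3 := by decide
        rw [h3]; simp [hk]
      · rw [(l2 t htl htk).1, E.y_inv t htk]; simp [pow_two, E.sq t htk]
  · by_cases hsk : s = .k
    · subst hsk
      by_cases htl : t = .l
      · subst htl
        have h3 : coxLabel edges .k .l = 3 := by decide
        rw [h3, E.y_l]; simp [hk]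
      · by_cases htk : t = .k
        · subst htk; simp
        · rw [E.y_inv t htk]
          by_cases hta : t = .a
          · subst hta
            have h3 : coxLabel edges .k .a = 3 := by decide
            rw [h3]; exact ⟨E.ka', E.ka⟩
          · rw [(k2 t htl htk hta).1]
            exact hinv t htl htk hta
    · rw [E.y_inv s hsk]
      by_cases htl : t = .l
      · subst htl
        rw [(l2 s hsl hsk).2, E.y_l]; simp [pow_two, E.sq s hsk]
      · by_cases htk : t = .k
        · subst htk
          by_cases hsa : s = .a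
          · subst hsa
            have h3 : coxLabel edges .a .k = 3 := by decide
            rw [h3]; exact ⟨pow_conj E.ka, pow_conj E.ka'⟩
          · rw [(k2 s hsl hsk hsa).2]
            exact ⟨pow_conj (hinv s hsl hsk hsa).2, pow_conj (hinv s hsl hsk hsa).1⟩
        · rw [E.y_inv t htk]
          exact ⟨E.cox s t hsl hsk htl htk, E.cox s t hsl hsk htl htk⟩

theorem rels : ∀ r ∈ coxRelators edges ∪ {r | r ∈ extra}, FreeGroup.lift (fun s => pe (E.y s)) r = 1 := by
  rintro r (⟨s, _, t, _, rfl⟩ | hr)
  · rw [map_pow, map_mul, FreeGroup.lift_apply_of, FreeGroup.lift_apply_of, pe_mul_pe, di_pow]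
    exact di_eq_one (E.cox_one s t).1 (E.cox_one s t).2
  · have hr' : r = Fi24.l * (((Fi24.a * Fi24.b * Fi24.c * Fi24.d * Fi24.e * Fi24.f * Fi24.h) ^ 9)⁻¹) ∨
        r = (Fi24.d * Fi24.c * Fi24.b * Fi24.a * Fi24.k * Fi24.l * Fi24.d * Fi24.e * Fi24.f * Fi24.g * Fi24.j *
          Fi24.d * Fi24.h * Fi24.i) ^ 17 := by
      have hr2 : r ∈ extra := hr
      unfold extra at hr2
      simpa using hr2
    have ha := E.y_inv .a (by decide)
    have hb := E.y_inv .b (by decide)
    have hc := E.y_inv .c (by decide)
    have hd := E.y_inv .d (by decide)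
    have he := E.y_inv .e (by decide)
    have hf := E.y_inv .f (by decide)
    have hg := E.y_inv .g (by decide)
    have hh := E.y_inv .h (by decide)
    have hi := E.y_inv .i (by decide)
    have hj := E.y_inv .j (by decide)
    rcases hr' with rfl | rfl
    · simp only [map_mul, map_pow, map_inv, FreeGroup.lift_apply_of]
      rw [mul_inv_eq_one, E.y_l]
      rw [pe_mul_pe, mul_assoc (di _) (pe _) (pe _), pe_mul_pe, di_mul, mul_assoc (di _) (pe _) (pe _), pe_mul_pe, di_mul,
        ha, hb, hc, hd, he, hf]
      have h9 := E.nine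
      have hU : ∀ n : ℕ, ∀ g : G, ((di (E.y .a * E.y .b * (E.y .c * E.y .d) * (E.y .e * E.y .f),
          E.y .a * E.y .b * (E.y .c * E.y .d) * (E.y .e * E.y .f)) * pe (E.y .h)) ^ n) (false, g) =
            (if Even n then false else true, (E.y .a * E.y .b * E.y .c * E.y .d * E.y .e * E.y .f * E.y .h) ^ n * g) ∧
          ((di (E.y .a * E.y .b * (E.y .c * E.y .d) * (E.y .e * E.y .f),
          E.y .a * E.y .b * (E.y .c * E.y .d) * (E.y .e * E.y .f)) * pe (E.y .h)) ^ n) (true, g) =
            (if Even n then true else false, (E.y .a * E.y .b * E.y .c * E.y .d * E.y .e * E.y .f * E.y .h) ^ n * g) := by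
        intro n
        induction n with
        | zero => intro g; simp
        | succ n ih =>
          intro g
          rw [pow_succ, Equiv.Perm.mul_apply, Equiv.Perm.mul_apply, Equiv.Perm.mul_apply, Equiv.Perm.mul_apply,
            pe_false, pe_true, di_true, di_false, hh, (ih _).1, (ih _).2]
          by_cases hn : Even n
          · have hn' : ¬ Even (n + 1) := by simpa [Nat.even_add_one] using hn
            simp only [hn, hn', if_true, if_false]
            constructor <;> refine Prod.ext rfl ?_ <;> simp only [pow_succ, mul_assoc]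
          · have hn' : Even (n + 1) := by simpa [Nat.even_add_one] using hn
            simp only [hn, hn', if_true, if_false]
            constructor <;> refine Prod.ext rfl ?_ <;> simp only [pow_succ, mul_assoc]
      refine Equiv.ext ?_
      rintro ⟨_ | _, g⟩
      · rw [(hU 9 g).1, h9]; simp [pe]; decide
      · rw [(hU 9 g).2, h9]; simp [pe]; decide
    · simp only [map_mul, map_pow, FreeGroup.lift_apply_of]
      rw [pe_mul_pe, mul_assoc (di _) (pe _) (pe _), pe_mul_pe, di_mul, mul_assoc (di _) (pe _) (pe _), pe_mul_pe, di_mul,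
        mul_assoc (di _) (pe _) (pe _), pe_mul_pe, di_mul, mul_assoc (di _) (pe _) (pe _), pe_mul_pe, di_mul,
        mul_assoc (di _) (pe _) (pe _), pe_mul_pe, di_mul, mul_assoc (di _) (pe _) (pe _), pe_mul_pe, di_mul,
        ha, hb, hc, hd, he, hf, hg, hh, hi, hj, E.y_l, inv_one, mul_one, mul_one, di_pow]
      refine di_eq_one ?_ ?_
      · have := E.seventeen'
        simpa only [mul_assoc] using this
      · have := E.seventeen
        simpa only [mul_assoc] using this

theorem sign_rels : ∀ r ∈ coxRelators edges ∪ {r | r ∈ extra},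
    FreeGroup.lift (fun _ : Gen => (-1 : ℤˣ)) r = 1 := by
  rintro r (⟨x, _, y, _, rfl⟩ | hr)
  · rw [map_pow, map_mul, FreeGroup.lift_apply_of, FreeGroup.lift_apply_of]
    simp
  · have hr' : r = Fi24.l * (((Fi24.a * Fi24.b * Fi24.c * Fi24.d * Fi24.e * Fi24.f * Fi24.h) ^ 9)⁻¹) ∨
        r = (Fi24.d * Fi24.c * Fi24.b * Fi24.a * Fi24.k * Fi24.l * Fi24.d * Fi24.e * Fi24.f * Fi24.g * Fi24.j *
          Fi24.d * Fi24.h * Fi24.i) ^ 17 := by
      have hr2 : r ∈ extra := hr
      unfold extra at hr2
      simpa using hr2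
    rcases hr' with rfl | rfl
    · simp only [map_mul, map_pow, map_inv, FreeGroup.lift_apply_of]
      decide
    · simp only [map_mul, map_pow, FreeGroup.lift_apply_of]
      decide

/-- The sign character. -/
def sgn : Cfsg.Spor.Fi24 →* ℤˣ := PresentedGroup.toGroup sign_rels

theorem sgn_of (x : Gen) : sgn (PresentedGroup.of x) = -1 := PresentedGroup.toGroup.of _

theorem commutator_le : commutator Cfsg.Spor.Fi24 ≤ sgn.ker := Abelianization.commutator_subset_ker sgn

/-- The homomorphism from the commutator subgroup of the presented group. -/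
def hom : ↥(commutator Cfsg.Spor.Fi24) →* G :=
  (phi E.y E.rels sgn sgn_of).comp (Subgroup.inclusion commutator_le)

theorem hom_mul (s t : Gen) (h : gen s * gen t ∈ commutator Cfsg.Spor.Fi24) :
    E.hom ⟨gen s * gen t, h⟩ = (E.y s)⁻¹ * E.y t :=
  phi_mul E.y E.rels sgn sgn_of s t (commutator_le h)

end EvenData

theorem mem_nodes (x : Gen) : x ∈ coxNodes edges := by
  cases x <;> decide

theorem gen_rel (x y : Gen) : (gen x * gen y) ^ coxLabel edges x y = 1 := by
  have h : (FreeGroup.of x * FreeGroup.of y) ^ coxLabel edges x y ∈ coxRelators edges ∪ {r | r ∈ extra} :=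
    Or.inl ⟨x, mem_nodes x, y, mem_nodes y, rfl⟩
  have := PresentedGroup.one_of_mem h
  rw [map_pow, map_mul] at this
  exact this

theorem gen_sq (x : Gen) : gen x * gen x = 1 := by
  have h := gen_rel x x
  have hl : coxLabel edges x x = 1 := by cases x <;> decide
  rw [hl, pow_one] at h
  exact h

/-- `y` is conjugate to `x` when `x`, `y` are joined. -/
theorem conj_of_edge {G : Type*} [Group G] {x y : G} (hx : x * x = 1) (hy : y * y = 1)
    (h : (x * y) ^ 3 = 1) : y = (x * y) * x * (x * y)⁻¹ := by
  have hx' : x⁻¹ = x := inv_eq_of_mul_eq_one_left hx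
  have hy' : y⁻¹ = y := inv_eq_of_mul_eq_one_left hy
  rw [mul_inv_rev, hx', hy']
  have h3 : x * y * x * y * x * y = 1 := by
    rw [pow_succ, pow_succ, pow_one] at h
    simpa [mul_assoc] using h
  calc y = x * y * x * y * x * y * y := by rw [h3, one_mul]
    _ = x * y * x * (y * x) * (y * y) := by group
    _ = x * y * x * (y * x) := by rw [hy, mul_one]

theorem ab_gen (x : Gen) : Abelianization.of (gen x) = Abelianization.of (gen .l) := by
  have step : ∀ x y : Gen, coxLabel edges x y = 3 →
      Abelianization.of (gen y) = Abelianization.of (gen x) := by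
    intro x y hl
    have h := gen_rel x y
    rw [hl] at h
    conv_lhs => rw [conj_of_edge (gen_sq x) (gen_sq y) h]
    simp only [map_mul, map_inv]
    rw [mul_comm (Abelianization.of (gen x) * Abelianization.of (gen y)), mul_assoc,
      mul_inv_cancel, mul_one]
  have hk := step .l .k (by decide)
  have ha := (step .k .a (by decide)).trans hk
  have hb := (step .a .b (by decide)).trans ha
  have hc := (step .b .c (by decide)).trans hb
  have hd := (step .c .d (by decide)).trans hc
  have he := (step .d .e (by decide)).trans hd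
  have hf := (step .e .f (by decide)).trans he
  have hg := (step .f .g (by decide)).trans hf
  have hj := (step .g .j (by decide)).trans hg
  have hh := (step .d .h (by decide)).trans hd
  have hi := (step .h .i (by decide)).trans hh
  cases x <;> first | assumption | rfl

theorem mul_mem_commutator (s t : Gen) : gen s * gen t ∈ commutator Cfsg.Spor.Fi24 := by
  rw [← Abelianization.ker_of, MonoidHom.mem_ker, map_mul, ab_gen s, ab_gen t, ← map_mul, gen_sq, map_one]

namespace EvenData

variable {G : Type*} [Group G] (E : EvenData G)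

theorem hom_l (s : Gen) : E.hom ⟨gen .l * gen s, mul_mem_commutator .l s⟩ = E.y s := by
  rw [hom_mul, E.y_l, inv_one, one_mul]

theorem range_hom : E.hom.range = Subgroup.closure (Set.range E.y) := by
  apply le_antisymm
  · rintro _ ⟨g, rfl⟩
    exact phi_mem E.y E.rels sgn sgn_of (Subgroup.closure (Set.range E.y))
      (fun s => Subgroup.subset_closure (Set.mem_range_self s)) _
  · rw [Subgroup.closure_le]
    rintro _ ⟨s, rfl⟩
    exact ⟨_, E.hom_l s⟩

/-- The subgroup generated by the elements is the commutator subgroup of `Fi24` as soon as the latter is simple. -/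
theorem nonempty_equiv [IsSimpleGroup ↥(commutator Cfsg.Spor.Fi24)] {s : Gen} (hs : E.y s ≠ 1) :
    Nonempty (↥(Subgroup.closure (Set.range E.y)) ≃* ↥(commutator Cfsg.Spor.Fi24)) := by
  have hker : E.hom.ker = ⊥ := by
    rcases (inferInstance : E.hom.ker.Normal).eq_bot_or_eq_top with h | h
    · exact h
    · exfalso
      apply hs
      rw [← E.hom_l s]
      have : (⟨gen .l * gen s, mul_mem_commutator .l s⟩ : ↥(commutator Cfsg.Spor.Fi24)) ∈ E.hom.ker := by
        rw [h]; trivial
      exact this
  have hinj : Function.Injective E.hom := (MonoidHom.ker_eq_bot_iff _).1 hker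
  exact ⟨((MonoidHom.ofInjective hinj).trans (MulEquiv.subgroupCongr E.range_hom)).symm⟩

end EvenData

end Cfsg.Agent.Fi24P.EvenPres
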